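import Mathlib

/-!
# Primitive prime divisors (Zsigmondy)

`exists_primitive_prime`: for `a > 1`, `n > 1`, `(a, n) ≠ (2, 6)` and not (`n = 2` with `a + 1` a power of `2`),
some prime divides `a^n - 1` and no `a^k - 1`, `0 < k < n`. `exists_ppd`: the same as an order in `ZMod r`.
-/

set_option autoImplicit false

namespace CfsgLib.Zsigmondy

open Polynomial

theorem three_mul_le (r : ℕ) (h : 5 ≤ r) : 3 * r + 1 ≤ 2 ^ r := by
  induction r, h using Nat.le_induction with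
  | base => norm_num
  | succ r hr ih => rw [pow_succ]; omega

theorem isRoot_of_dvd {a n r : ℕ} (h : r ∣ ((cyclotomic n ℤ).eval (a : ℤ)).natAbs) :
    (cyclotomic n (ZMod r)).IsRoot (a : ZMod r) := by
  have h1 : ((r : ℕ) : ℤ) ∣ (cyclotomic n ℤ).eval (a : ℤ) := Int.natCast_dvd.mpr h
  rw [← ZMod.intCast_zmod_eq_zero_iff_dvd] at h1
  rw [IsRoot.def, ← map_cyclotomic_int n (ZMod r), eval_map]
  have h3 := Polynomial.hom_eval₂ (cyclotomic n ℤ) (RingHom.id ℤ) (Int.castRingHom (ZMod r)) (a : ℤ)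
  rw [eval₂_id, RingHom.comp_id] at h3
  simpa [h1] using h3.symm

/-- A prime dividing the cyclotomic value either is primitive or divides `n`, with `n = r^k m`, `m ∣ r - 1`. -/
theorem cases_of_dvd {a n r : ℕ} (hn : 0 < n) (hr : r.Prime) (h : r ∣ ((cyclotomic n ℤ).eval (a : ℤ)).natAbs) :
    orderOf (a : ZMod r) = n ∨
      ∃ k m, 0 < k ∧ n = r ^ k * m ∧ m ∣ r - 1 ∧ orderOf (a : ZMod r) = m := by
  have : Fact r.Prime := ⟨hr⟩
  obtain ⟨k, m, hm, rfl⟩ := Nat.exists_eq_pow_mul_and_not_dvd hn.ne' r hr.ne_one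
  have : NeZero (m : ZMod r) := ⟨fun h0 => hm ((ZMod.natCast_eq_zero_iff _ _).mp h0)⟩
  have hp : IsPrimitiveRoot (a : ZMod r) m := (isRoot_cyclotomic_prime_pow_mul_iff_of_charP).mp (isRoot_of_dvd h)
  rcases Nat.eq_zero_or_pos k with rfl | hk
  · exact Or.inl (by rw [pow_zero, one_mul, hp.eq_orderOf])
  · refine Or.inr ⟨k, m, hk, rfl, ?_, hp.eq_orderOf.symm⟩
    have hm0 : m ≠ 0 := fun h0 => hm (h0 ▸ dvd_zero r)
    refine hp.dvd_of_pow_eq_one _ (ZMod.pow_card_sub_one_eq_one fun h0 => ?_)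
    have := hp.pow_eq_one
    rw [h0, zero_pow hm0] at this
    exact zero_ne_one this

/-- The value is not a prime dividing `n` unless `(a, n) = (2, 6)`. -/
theorem ne_prime {a n r k m : ℕ} (ha : 1 < a) (hr : r.Prime) (hr3 : 3 ≤ r) (hk : 0 < k) (hnm : n = r ^ k * m)
    (hm : m ∣ r - 1) (h6 : ¬(a = 2 ∧ n = 6)) : ((cyclotomic n ℤ).eval (a : ℤ)).natAbs ≠ r := by
  have : Fact r.Prime := ⟨hr⟩
  have hm0 : 0 < m := Nat.pos_of_dvd_of_pos hm (by omega)
  have hrn : r ∣ n := hnm ▸ dvd_mul_of_dvd_left (dvd_pow_self r hk.ne') m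
  have hrm : ¬ r ∣ m := fun h => by have := Nat.le_of_dvd (by omega) (h.trans hm); omega
  have hn2 : 1 < n := by
    have := Nat.le_of_dvd (hnm ▸ Nat.mul_pos (Nat.pow_pos hr.pos) hm0) hrn
    omega
  intro hΦ
  rcases Nat.lt_or_ge a 3 with ha2 | ha3
  swap
  · have h1 := sub_one_pow_totient_lt_natAbs_cyclotomic_eval (q := a) hn2 (by omega)
    rw [hΦ] at h1
    have h2 : r - 1 ≤ n.totient := by
      have := Nat.le_of_dvd (Nat.totient_pos.mpr (by omega)) (Nat.totient_dvd_of_dvd hrn)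
      rwa [Nat.totient_prime hr] at this
    have h3 : 2 ^ (r - 1) ≤ (a - 1) ^ n.totient :=
      (Nat.pow_le_pow_left (by omega) _).trans (Nat.pow_le_pow_right (by omega) h2)
    have h4 := Nat.lt_two_pow_self (n := r - 1)
    omega
  obtain rfl : a = 2 := by omega
  have h2r : r + 2 ≤ 2 ^ r := by
    have := Nat.lt_two_pow_self (n := r - 1)
    have h' : 2 ^ r = 2 ^ (r - 1) * 2 := by rw [← pow_succ, Nat.sub_add_cancel (by omega : 1 ≤ r)]
    omega
  obtain ⟨j, rfl⟩ : ∃ j, k = j + 1 := ⟨k - 1, by omega⟩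
  rcases Nat.eq_zero_or_pos j with rfl | hj
  swap
  · have hn' : n = r ^ j * m * r := by rw [hnm]; ring
    have hdiv : r ∣ r ^ j * m := dvd_mul_of_dvd_left (dvd_pow_self r hj.ne') m
    have h1 : (cyclotomic (r ^ j * m) ℤ).eval (((2 ^ r : ℕ) : ℤ)) = (cyclotomic n ℤ).eval ((2 : ℕ) : ℤ) := by
      rw [hn', ← cyclotomic_expand_eq_cyclotomic hr hdiv ℤ, expand_eval]
      push_cast; rfl
    have h2 := sub_one_pow_totient_lt_natAbs_cyclotomic_eval (n := r ^ j * m) (q := 2 ^ r)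
      (lt_of_lt_of_le hr.one_lt (Nat.le_of_dvd (Nat.mul_pos (Nat.pow_pos hr.pos) hm0) hdiv)) (by omega)
    rw [h1, hΦ] at h2
    have h3 : 2 ^ r - 1 ≤ (2 ^ r - 1) ^ (r ^ j * m).totient :=
      Nat.le_self_pow (Nat.totient_pos.mpr (Nat.mul_pos (Nat.pow_pos hr.pos) hm0)).ne' _
    omega
  · have hn' : n = m * r := by rw [hnm]; ring
    have h1 : (cyclotomic m ℤ).eval (((2 ^ r : ℕ) : ℤ)) =
        (cyclotomic n ℤ).eval ((2 : ℕ) : ℤ) * (cyclotomic m ℤ).eval ((2 : ℕ) : ℤ) := by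
      rw [hn', ← eval_mul, ← cyclotomic_expand_eq_cyclotomic_mul hr hrm ℤ, expand_eval]
      push_cast; rfl
    have h1' := congrArg Int.natAbs h1
    rw [Int.natAbs_mul, hΦ] at h1'
    rcases Nat.lt_or_ge m 2 with hm1 | hm2
    · obtain rfl : m = 1 := by omega
      simp only [cyclotomic_one, eval_sub, eval_X, eval_one] at h1'
      have e1 : ∀ x : ℕ, 1 ≤ x → Int.natAbs ((x : ℤ) - 1) = x - 1 := fun x hx => by omega
      rw [e1 _ (Nat.one_le_pow _ _ two_pos), e1 2 one_le_two] at h1'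
      omega
    · rcases Nat.lt_or_ge r 5 with hr5 | hr5
      · obtain rfl : r = 3 := by
          interval_cases r
          · rfl
          · norm_num at hr
        have : m ≤ 2 := Nat.le_of_dvd (by norm_num) hm
        exact h6 ⟨rfl, by rw [hn']; omega⟩
      have h2 := sub_one_pow_totient_lt_natAbs_cyclotomic_eval (n := m) (q := 2 ^ r) (by omega) (by omega)
      rw [h1'] at h2
      have h3 : ((cyclotomic m ℤ).eval ((2 : ℕ) : ℤ)).natAbs ≤ 3 ^ m.totient := by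
        have h4 := cyclotomic_eval_le_add_one_pow_totient (q := (2 : ℝ)) one_lt_two m
        have h5 : (cyclotomic m ℝ).eval (2 : ℝ) = (((cyclotomic m ℤ).eval ((2 : ℕ) : ℤ) : ℤ) : ℝ) := by
          rw [← map_cyclotomic_int m ℝ, eval_map]
          have h6 := Polynomial.hom_eval₂ (cyclotomic m ℤ) (RingHom.id ℤ) (Int.castRingHom ℝ) ((2 : ℕ) : ℤ)
          rw [eval₂_id, RingHom.comp_id] at h6
          simpa using h6.symm
        rw [h5] at h4
        norm_num at h4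
        have h7 : (0 : ℤ) ≤ (cyclotomic m ℤ).eval ((2 : ℕ) : ℤ) := cyclotomic_nonneg m (by norm_num)
        have h8 : (cyclotomic m ℤ).eval ((2 : ℕ) : ℤ) ≤ ((3 ^ m.totient : ℕ) : ℤ) := by
          have : (((cyclotomic m ℤ).eval ((2 : ℕ) : ℤ) : ℤ) : ℝ) ≤ (((3 ^ m.totient : ℕ) : ℤ) : ℝ) := by
            push_cast; simpa using h4
          exact_mod_cast this
        omega
      have hpos : 0 < m.totient := Nat.totient_pos.mpr hm0
      have h9 : (3 * r) ^ m.totient ≤ (2 ^ r - 1) ^ m.totient :=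
        Nat.pow_le_pow_left (by have := three_mul_le r hr5; omega) _
      have h10 : r * 3 ^ m.totient ≤ (3 * r) ^ m.totient := by
        rw [mul_pow, mul_comm]
        exact Nat.mul_le_mul_left _ (Nat.le_self_pow hpos.ne' _)
      have h11 := Nat.mul_le_mul_left r h3
      omega

/-- Zsigmondy's theorem, in terms of orders. -/
theorem exists_ppd {a n : ℕ} (ha : 1 < a) (hn : 1 < n) (h6 : ¬ (a = 2 ∧ n = 6))
    (h2 : ¬ (n = 2 ∧ ∃ m : ℕ, a + 1 = 2 ^ m)) : ∃ r : ℕ, r.Prime ∧ orderOf (a : ZMod r) = n := by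
  set Φ := ((cyclotomic n ℤ).eval (a : ℤ)).natAbs with hΦ
  by_contra hall
  push Not at hall
  have hΦ1 : 1 < Φ := by
    have h := sub_one_pow_totient_lt_natAbs_cyclotomic_eval (q := a) hn (by omega)
    have : 1 ≤ (a - 1) ^ n.totient := Nat.one_le_pow _ _ (by omega)
    omega
  have hcase : ∀ r, r.Prime → r ∣ Φ → ∃ k m, 0 < k ∧ n = r ^ k * m ∧ m ∣ r - 1 ∧ orderOf (a : ZMod r) = m :=
    fun r hr h => (cases_of_dvd (by omega) hr h).resolve_left (hall r hr)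
  obtain ⟨r, hr, hrΦ⟩ := Nat.exists_prime_and_dvd hΦ1.ne'
  have huniq : ∀ r', r'.Prime → r' ∣ Φ → r' = r := by
    have hle : ∀ s t, s.Prime → t.Prime → s ∣ Φ → t ∣ Φ → s ≠ t → t < s := by
      intro s t hs ht hsΦ htΦ hst
      obtain ⟨k, m, hk, hnm, hm, -⟩ := hcase s hs hsΦ
      obtain ⟨k', m', hk', hnm', -, -⟩ := hcase t ht htΦ
      have htn : t ∣ s ^ k * m := hnm ▸ hnm' ▸ dvd_mul_of_dvd_left (dvd_pow_self t hk'.ne') m'
      rcases (ht.dvd_mul).mp htn with h | h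
      · exact absurd ((Nat.prime_dvd_prime_iff_eq ht hs).mp (ht.dvd_of_dvd_pow h)) hst.symm
      · have h2 := hs.two_le
        have := Nat.le_of_dvd (by omega) (h.trans hm)
        omega
    intro r' hr' h'
    by_contra hne
    have := hle r' r hr' hr h' hrΦ hne
    have := hle r r' hr hr' hrΦ h' (Ne.symm hne)
    omega
  obtain ⟨e, he⟩ : ∃ e, Φ = r ^ e :=
    ⟨_, Nat.eq_prime_pow_of_unique_prime_dvd (by omega) (fun {q} hq hqΦ => huniq q hq hqΦ)⟩
  obtain ⟨k, m, hk, hnm, hm, hord⟩ := hcase r hr hrΦ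
  have : Fact r.Prime := ⟨hr⟩
  rcases hr.eq_two_or_odd' with rfl | hodd
  · obtain rfl : m = 1 := Nat.dvd_one.mp hm
    rw [mul_one] at hnm
    obtain ⟨j, rfl⟩ : ∃ j, k = j + 1 := ⟨k - 1, by omega⟩
    have hval : Φ = a ^ (2 ^ j) + 1 := by
      rw [hΦ, hnm, cyclotomic_prime_pow_eq_geom_sum hr]
      simp only [Finset.sum_range_succ, Finset.sum_range_zero, pow_zero, pow_one, zero_add, eval_add, eval_one,
        eval_pow, eval_X]
      rw [show (1 : ℤ) + (a : ℤ) ^ 2 ^ j = ((a ^ 2 ^ j + 1 : ℕ) : ℤ) by push_cast; ring, Int.natAbs_natCast]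
    rcases Nat.eq_zero_or_pos j with rfl | hj
    · exact h2 ⟨by rw [hnm]; norm_num, e, by rw [← he, hval]; simp⟩
    obtain ⟨i, rfl⟩ : ∃ i, j = i + 1 := ⟨j - 1, by omega⟩
    have hodd' : Odd (a ^ 2 ^ i) := by
      refine Odd.pow ?_
      rw [← Nat.not_even_iff_odd, ← ZMod.natCast_eq_zero_iff_even]
      intro h0
      have := pow_orderOf_eq_one (a : ZMod 2)
      rw [hord, h0, pow_one] at this
      exact zero_ne_one this
    rw [pow_succ 2 i, pow_mul] at hval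
    obtain ⟨c, hc⟩ := hodd'
    rw [hc] at hval
    have hc0 : 0 < c := by
      have : 1 < a ^ 2 ^ i := Nat.one_lt_pow (pow_ne_zero _ two_ne_zero) ha
      omega
    have h4 : Φ % 4 = 2 := by
      rw [hval, show (2 * c + 1) ^ 2 + 1 = 2 + 4 * (c * c + c) by ring, Nat.add_mul_mod_self_left]
    rcases Nat.lt_or_ge e 2 with he1 | he2
    · interval_cases e <;> simp [hval] at he <;> nlinarith
    · obtain ⟨e', rfl⟩ : ∃ e', e = e' + 2 := ⟨e - 2, by omega⟩
      rw [he, pow_add] at h4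
      simp [Nat.mul_mod] at h4
  · have hr3 : 3 ≤ r := by have := hr.two_le; rcases hodd with ⟨c, hc⟩; omega
    refine ne_prime ha hr hr3 hk hnm hm h6 ?_
    show Φ = r
    obtain ⟨j, rfl⟩ : ∃ j, k = j + 1 := ⟨k - 1, by omega⟩
    set d := r ^ j * m with hd
    have hm0 : 0 < m := Nat.pos_of_dvd_of_pos hm (by omega)
    have hdn : n = d * r := by rw [hnm, hd]; ring
    have hd0 : 0 < d := Nat.mul_pos (Nat.pow_pos hr.pos) hm0
    have hdp : d ∈ n.properDivisors := Nat.mem_properDivisors.mpr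
      ⟨⟨r, hdn⟩, by rw [hdn]; exact lt_mul_of_one_lt_right hd0 hr.one_lt⟩
    have hdvd := map_dvd (evalRingHom (a : ℤ)) (X_pow_sub_one_mul_cyclotomic_dvd_X_pow_sub_one_of_dvd ℤ hdp)
    simp only [map_mul, map_sub, map_pow, map_one, coe_evalRingHom, eval_X] at hdvd
    rw [show ((a : ℤ)) ^ n = ((a : ℤ) ^ d) ^ r by rw [hdn, pow_mul]] at hdvd
    have hb1 : ((a : ℤ) ^ d - 1) ≠ 0 := by
      have : 1 < (a : ℤ) ^ d := one_lt_pow₀ (by exact_mod_cast ha) hd0.ne'
      omega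
    rw [← geom_sum_mul ((a : ℤ) ^ d) r, mul_comm _ ((a : ℤ) ^ d - 1), mul_dvd_mul_iff_left hb1] at hdvd
    obtain ⟨c, hc⟩ : (r : ℤ) ∣ (a : ℤ) ^ d - 1 := by
      rw [← ZMod.intCast_zmod_eq_zero_iff_dvd]
      push_cast
      rw [sub_eq_zero, ← orderOf_dvd_iff_pow_eq_one, hord]
      exact Dvd.intro_left _ rfl
    have hsq := odd_sq_dvd_geom_sum₂_sub (R := ℤ) (1 : ℤ) c hodd
    simp only [one_pow, mul_one] at hsq
    rw [show (1 : ℤ) + (r : ℤ) * c = (a : ℤ) ^ d by linarith] at hsq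
    rcases Nat.lt_or_ge e 2 with he1 | he2
    · interval_cases e
      · simp at he; omega
      · rw [he, pow_one]
    · exfalso
      have h1 : (r : ℤ) ^ 2 ∣ (cyclotomic n ℤ).eval (a : ℤ) := by
        have : r ^ 2 ∣ Φ := he ▸ pow_dvd_pow r he2
        rw [hΦ] at this
        exact_mod_cast Int.natCast_dvd.mpr this
      have h3 : (r : ℤ) ^ 2 ∣ (r : ℤ) := by
        have := dvd_sub (h1.trans hdvd) hsq
        rwa [sub_sub_cancel] at this
      have := Int.le_of_dvd (by omega) h3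
      nlinarith

/-- Zsigmondy's theorem. -/
theorem exists_primitive_prime (a n : ℕ) (ha : 1 < a) (hn : 1 < n) (h6 : ¬ (a = 2 ∧ n = 6))
    (h2 : ¬ (n = 2 ∧ ∃ m : ℕ, a + 1 = 2 ^ m)) :
    ∃ r : ℕ, r.Prime ∧ r ∣ a ^ n - 1 ∧ ∀ k : ℕ, 0 < k → k < n → ¬ r ∣ a ^ k - 1 := by
  obtain ⟨r, hr, hord⟩ := exists_ppd ha hn h6 h2
  have key : ∀ k, r ∣ a ^ k - 1 ↔ orderOf (a : ZMod r) ∣ k := by
    intro k
    rw [orderOf_dvd_iff_pow_eq_one, ← ZMod.natCast_eq_zero_iff, Nat.cast_sub (Nat.one_le_pow _ _ (by omega)),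
      Nat.cast_pow, Nat.cast_one, sub_eq_zero]
  refine ⟨r, hr, (key n).mpr (by rw [hord]), fun k hk hkn h => ?_⟩
  rw [key, hord] at h
  have := Nat.le_of_dvd hk h
  omega

end CfsgLib.Zsigmondy
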